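import Mathlib
import Cfsg.Agent.FG.ClassGraph
import Cfsg.Agent.FG.HallNumB
import Cfsg.Agent.FG.H93Solv
import Cfsg.Agent.GT.TransferFrobenius
import Cfsg.Agent.GT.Supersolvable2
import Cfsg.Agent.S4160
import Cfsg.Agent.S0205

/-! Primes at distance at least three in the prime graph on class sizes. -/

set_option autoImplicit false

namespace Cfsg.Agent.CsG

open Cfsg Subgroup Cfsg.Agent.GT Cfsg.Agent.FG.CI Cfsg.Agent.FG.CG
open scoped commutatorElement

variable {G : Type*} [Group G] [Finite G] {p q : ℕ}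

/-- in a `q`-nilpotent group with a noncentral Sylow `q`-subgroup every normal subgroup containing
it has an element of class size divisible by `q` -/
theorem exists_dvd [Fact q.Prime] (h : HasNormalPComplement q G) {d : G} (hd : q ∣ cidx d)
    (Q : Sylow q G) (N : Subgroup G) [N.Normal] (l : (Q : Subgroup G) ≤ N) :
    ∃ y ∈ N, q ∣ cidx y := by
  by_contra! hn
  have h1 := sylow_le_center_of_forall_not_dvd (Q.subtype l) fun x e =>
    hn x x.2 (e.trans (cidx_coe_dvd N x))
  have h2 := SS.normal_map_sylow_of_normal (Q.subtype l)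
    ⟨fun n hn g => by
      rw [mem_center_iff.1 (h1 hn) g, mul_inv_cancel_right]; exact hn⟩
  rw [Sylow.coe_subtype, map_subgroupOf_eq_of_le l] at h2
  have hc := h.isComplement'_pResidual Q
  refine not_dvd_cidx_of_sylow_le_center Q (fun x hx => mem_center_iff.2 fun g => ?_) d hd
  have : centralizer {x} = ⊤ := by
    rw [eq_top_iff, ← hc.sup_eq_top]
    refine sup_le (fun k hk => mem_cent_commute.2 ?_) fun k hk => mem_cent.2 ?_
    · exact commute_of_normal_of_disjoint _ _ inferInstance h2 hc.disjoint k x hk hx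
    · exact congrArg Subtype.val (mem_center_iff.1 (h1 (show (⟨x, l hx⟩ : N) ∈ _ from hx)) ⟨k, l hk⟩)
  exact mem_cent.1 (this ▸ mem_top g)

theorem sylow_le_res [hp : Fact p.Prime] [hq : Fact q.Prime] (h : HasNormalPComplement p G)
    (ne : q ≠ p) (Q : Sylow q G) : (Q : Subgroup G) ≤ pResidual p G := fun x hx => by
  obtain ⟨k, hk⟩ := orderOf_of_mem Q.isPGroup' hx
  rw [h.mem_pResidual_iff, hk]
  exact ((Nat.coprime_primes hq.out hp.out).2 ne).pow_left k

/-- commuting Sylow subgroups -/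
theorem exists_comm [hp : Fact p.Prime] [hq : Fact q.Prime] (h1 : HasNormalPComplement p G)
    (h2 : HasNormalPComplement q G) (ne : p ≠ q) (P : Sylow p G) :
    ∃ Q : Sylow q G, (Q : Subgroup G) ≤ centralizer ((P : Subgroup G) : Set G) := by
  have hF : normalizer ((P : Subgroup G) : Set G) ⊔ pResidual q G = ⊤ :=
    Sylow.normalizer_sup_eq_top' P (sylow_le_res h2 ne P)
  set H := normalizer ((P : Subgroup G) : Set G)
  set N := pResidual q G
  have e : H.index ∣ Nat.card N := by
    have a1 := H.index_mul_card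
    have a2 := N.index_mul_card
    have a3 : N.relIndex H = N.index := by rw [← relIndex_sup_right, hF, relIndex_top_right]
    have a4 := PG.relIndex_mul_card_inf N (K := H)
    refine ⟨Nat.card (N ⊓ H : Subgroup G), Nat.eq_of_mul_eq_mul_left (Nat.pos_of_ne_zero
      (index_ne_zero_of_finite (H := N))) ?_⟩
    rw [a2, ← a1, ← a4, a3]; ring
  obtain ⟨Q, hQ⟩ := (not_dvd_index_iff (p := q) H).1 fun d => h2.not_dvd_card_pResidual (d.trans e)
  refine ⟨Q, fun x hx => h1.mem_centralizer P.isPGroup' (hQ hx) ?_⟩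
  exact h1.mem_pResidual_iff.1 (sylow_le_res h1 ne.symm Q hx)

/-- no class sizes divisible by `p` and by `q` have a common prime divisor -/
def Far (p q : ℕ) (G : Type*) [Group G] : Prop :=
  ∀ x y : G, p ∣ cidx x → q ∣ cidx y → (cidx x).Coprime (cidx y)

omit [Finite G] in
theorem Far.symm (h : Far p q G) : Far q p G := fun x y a b => (h y x b a).symm

omit [Finite G] in
theorem Far.not [hp : Fact p.Prime] (h : Far p q G) {x : G} (a : p ∣ cidx x) (b : q ∣ cidx x) :
    False := hp.out.ne_one (Nat.eq_one_of_dvd_coprimes (h x x a b) a a)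

theorem Far.dvd [hp : Fact p.Prime] [hq : Fact q.Prime] (h : Far p q G)
    (h1 : HasNormalPComplement p G) (h2 : HasNormalPComplement q G) (ne : p ≠ q) {d : G}
    (hd : q ∣ cidx d) {g : G} (hg : ∃ k, orderOf g = p ^ k) : ∃ w : G, q ∣ cidx w ∧ cidx g ∣ cidx w := by
  obtain ⟨Q⟩ : Nonempty (Sylow q G) := inferInstance
  obtain ⟨y, hy, e⟩ := exists_dvd h2 hd Q _ (sylow_le_res h1 ne.symm Q)
  obtain ⟨a, ha⟩ := exists_conj_mem_cent hg fun f => h.not f e
  obtain ⟨k, hk⟩ := hg
  have hc : (orderOf (a * g * a⁻¹)).Coprime (orderOf y) := by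
    rw [show orderOf (a * g * a⁻¹) = orderOf g from (MulAut.conj a).orderOf_eq g, hk]
    exact (h1.mem_pResidual_iff.1 hy).symm.pow_left k
  exact ⟨_, e.trans (cidx_dvd_cidx_mul_right (mem_cent_commute.1 ha) hc),
    cidx_conj g a ▸ cidx_dvd_cidx_mul_left (mem_cent_commute.1 ha) hc⟩

theorem Far.false_of_nilp [hp : Fact p.Prime] [hq : Fact q.Prime] (h : Far p q G)
    (h1 : HasNormalPComplement p G) (h2 : HasNormalPComplement q G) (ne : p ≠ q) {c d : G}
    (hc : p ∣ cidx c) (hd : q ∣ cidx d) : False := by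
  obtain ⟨P⟩ : Nonempty (Sylow p G) := inferInstance
  obtain ⟨Q, hQ⟩ := exists_comm h1 h2 ne P
  have cm : ∀ g u : G, (∃ k, orderOf g = p ^ k) → (∃ k, orderOf u = q ^ k) →
      g ∈ centralizer ({u} : Set G) := by
    intro g u hg hu
    obtain ⟨w, a1, a2⟩ := h.dvd h1 h2 ne hd hg
    obtain ⟨v, b1, b2⟩ := h.symm.dvd h2 h1 ne.symm hc hu
    obtain ⟨a, ha⟩ := exists_conj_mem_sylow P hg
    obtain ⟨b, hb⟩ := exists_conj_mem_sylow Q hu
    have := conj_mem_cent (x := a * g * a⁻¹) (c := b * u * b⁻¹) (by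
      rw [cidx_conj, cidx_conj]
      exact ((h v w b1 a1).symm.coprime_dvd_left a2).coprime_dvd_right b2)
      (mem_cent.2 (mem_centralizer_iff.1 (hQ hb) _ ha)) (b * a⁻¹)
    rw [mem_cent_conj] at this
    simpa [mul_assoc] using this
  let M := normalClosure ((Q : Subgroup G) : Set G)
  have hP : ∀ P' : Sylow p G, (P' : Subgroup G) ≤ centralizer (M : Set G) := fun P' g hg => by
    refine le_cent_iff.1 ((closure_le _).2 fun u hu => mem_cent_symm.1
      (cm g u (orderOf_of_mem P'.isPGroup' hg) ?_))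
    obtain ⟨v, hv, e⟩ := Group.mem_conjugatesOfSet_iff.1 hu
    obtain ⟨b, rfl⟩ := isConj_iff.1 e
    exact orderOf_of_mem (b • Q).isPGroup' (smul_mem_pointwise_smul _ (MulAut.conj b) _ hv)
  have hM : ∀ Q' : Sylow q G, (Q' : Subgroup G) ≤ M := fun Q' u hu => by
    obtain ⟨b, hb⟩ := exists_conj_mem_sylow Q (orderOf_of_mem Q'.isPGroup' hu)
    simpa [mul_assoc] using (inferInstance : M.Normal).conj_mem _ (le_normalClosure hb) b⁻¹
  obtain ⟨x, hx, ex⟩ := exists_dvd h1 hc P _ (hP P)
  obtain ⟨y, hy, ey⟩ := exists_dvd h2 hd Q M (hM Q)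
  refine h.not (x := x * y) (by_contra fun n => ?_) (by_contra fun n => ?_)
  · obtain ⟨P', l⟩ := (not_dvd_index_iff _).1 n
    refine not_dvd_cidx_of_sylow_le P' (fun g hg => mem_cent_commute.2 ?_) ex
    have a := mem_cent_commute.1 (l hg)
    have b : Commute g y := (mem_centralizer_iff.1 (hP P' hg) y hy).symm
    simpa using a.mul_right b.inv_right
  · obtain ⟨Q', l⟩ := (not_dvd_index_iff _).1 n
    refine not_dvd_cidx_of_sylow_le Q' (fun g hg => mem_cent_commute.2 ?_) ey
    have a := mem_cent_commute.1 (l hg)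
    have b : Commute g x := mem_centralizer_iff.1 hx g (hM Q' hg)
    simpa using b.inv_right.mul_right a

/-- if `G` is `r`-nilpotent for all primes `r` near `p`, none of which is `2`, it is solvable -/
theorem solv_of_nilp [hp : Fact p.Prime] {c : G} (hc : p ∣ cidx c)
    (h2 : ∀ x : G, p ∣ cidx x → ¬ 2 ∣ cidx x)
    (h : ∀ r : ℕ, r.Prime → (∃ x : G, p ∣ cidx x ∧ r ∣ cidx x) → HasNormalPComplement r G) :
    Group.IsSolvable G := by
  let A := {r : ℕ // r.Prime ∧ ∃ x : G, p ∣ cidx x ∧ r ∣ cidx x}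
  let K : Subgroup G := ⨅ r : A, pResidual r G
  let L : Subgroup G := ⨅ r : {r : A // r.1 ≠ p}, pResidual r G
  have : K.Normal := normal_iInf_normal fun _ => inferInstance
  have : L.Normal := normal_iInf_normal fun _ => inferInstance
  have hK : ∀ x : G, p ∣ cidx x → K ≤ centralizer {x} := fun x hx => by
    rw [← relIndex_eq_one, Nat.eq_one_iff_not_exists_prime_dvd]
    intro r hr hd
    have := Fact.mk hr
    have a : r.Prime ∧ ∃ x : G, p ∣ cidx x ∧ r ∣ cidx x := ⟨hr, x, hx, hd.trans (relIndex_cent_dvd K x)⟩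
    exact (h r hr a.2).not_dvd_card_pResidual ((hd.trans (relIndex_dvd_card _ _)).trans
      (card_dvd_of_le (iInf_le (fun r : A => pResidual r G) ⟨r, a⟩)))
  have hL : ∀ g : G, K ≤ centralizer {g} → ¬ p ∣ cidx g → L ≤ centralizer {g} := fun g l n => by
    have e : L ⊓ pResidual p G ≤ K := le_iInf fun r => by
      by_cases e : r.1 = p
      · rw [e]; exact inf_le_right
      · exact inf_le_left.trans (iInf_le (fun r : {r : A // r.1 ≠ p} => pResidual r G) ⟨r, e⟩)
    obtain ⟨k, hk⟩ := exists_index_pResidual (G := G) hp.out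
    have a := relIndex_dvd_of_le_left L (e.trans l)
    rw [inf_relIndex_left] at a
    rw [← relIndex_eq_one]
    exact Nat.eq_one_of_dvd_coprimes (((Nat.Prime.coprime_iff_not_dvd hp.out).2 n).pow_left k)
      (hk ▸ a.trans (relIndex_dvd_index_of_normal _ _)) (relIndex_cent_dvd L g)
  obtain ⟨s, hs, x, ⟨k, hk⟩, hx⟩ : ∃ s : ℕ, s.Prime ∧ ∃ x : G, (∃ k, orderOf x = s ^ k) ∧ p ∣ cidx x := by
    by_contra! n
    obtain ⟨P⟩ : Nonempty (Sylow p G) := inferInstance
    have a : zpowers c ≤ centralizer (L : Set G) := le_of_forall_isPGroup_le fun s hs _ R l hR g hg => by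
      have := Fact.mk hs
      exact le_cent_iff.1 (hL g ((hK c hc).trans (cent_le_of_mem_zpowers (l hg)))
        (n s hs g (orderOf_of_mem hR hg)))
    refine not_dvd_cidx_of_sylow_le P (le_trans (le_iInf fun r => ?_)
      (le_cent_iff.2 (a (mem_zpowers c)))) hc
    have := Fact.mk r.1.2.1
    exact sylow_le_res (h _ r.1.2.1 r.1.2.2) r.2.symm P
  have hz : ∀ r : ℕ, r.Prime → r ≠ s → ∀ R : Sylow r K, (R : Subgroup K) ≤ center K := by
    intro r hr ne R y hy
    have := Fact.mk hr
    obtain ⟨j, hj⟩ := orderOf_of_mem R.isPGroup' hy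
    have cm : Commute x y := (mem_cent_commute.1 (hK x hx y.2)).symm
    have co : (orderOf x).Coprime (orderOf (y : G)) := by
      rw [orderOf_coe, hk, hj]
      exact Nat.Coprime.pow _ _ ((Nat.coprime_primes hs hr).2 ne.symm)
    have := hK _ (hx.trans (cidx_dvd_cidx_mul_left cm co))
    rw [cent_mul_of_coprime cm co] at this
    exact mem_center_iff.2 fun g => Subtype.ext (mem_cent.1 (this g.2).2)
  have : Group.IsNilpotent K := isNilpotent_of_exists_sylow_normal fun r hr _ => by
    have := Fact.mk hr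
    obtain ⟨R⟩ : Nonempty (Sylow r K) := inferInstance
    refine ⟨R, normalizer_eq_top_iff.1 (eq_top_of_forall_sylow_le fun t ht _ => ?_)⟩
    have := Fact.mk ht
    obtain ⟨T⟩ : Nonempty (Sylow t K) := inferInstance
    by_cases e : t = r
    · subst e; exact ⟨R, le_normalizer⟩
    by_cases e' : t = s
    · refine ⟨T, fun g _ => mem_normalizer_iff.2 fun y => ?_⟩
      have a := hz r hr (fun f => e (e'.trans f.symm)) R
      constructor
      · intro hy
        rw [mem_center_iff.1 (a hy) g, mul_inv_cancel_right]; exact hy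
      · intro hy
        have b := mem_center_iff.1 (a hy) g
        rw [mul_assoc, mul_assoc, mul_assoc, inv_mul_cancel, mul_one, mul_right_inj, ← mul_assoc] at b
        exact b ▸ hy
    · exact ⟨T, (hz t ht e' T).trans (center_le_normalizer _)⟩
  refine FG.H93.isSolvable_of_normal K inferInstance (S0205.result (Nat.not_even_iff_odd.1 ?_))
  obtain ⟨T⟩ : Nonempty (Sylow 2 G) := inferInstance
  rw [even_iff_two_dvd]
  refine (not_dvd_index_iff K).2 ⟨T, le_iInf fun r => ?_⟩
  have := Fact.mk r.2.1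
  obtain ⟨y, a, b⟩ := r.2.2
  exact sylow_le_res (h _ r.2.1 r.2.2) (fun e : 2 = r.1 => h2 y a (by rw [e]; exact b)) T

theorem Far.solv' [hp : Fact p.Prime] [hq : Fact q.Prime] (h : Far p q G) (ne : p ≠ q) {c d : G}
    (hc : p ∣ cidx c) (hd : q ∣ cidx d) (h2 : ∀ x : G, p ∣ cidx x → ¬ 2 ∣ cidx x) :
    Group.IsSolvable G := by
  by_contra hG
  have n2 : ¬ HasNormalPComplement 2 G := fun e => hG (FG.HN.solv_of_compl e)
  obtain ⟨t, ht⟩ : ∃ t : G, 2 ∣ cidx t := by
    by_contra! n
    obtain ⟨T⟩ : Nonempty (Sylow 2 G) := inferInstance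
    exact n2 (Tr.hasNormalPComplement_of_sylow_le_center T (sylow_le_center_of_forall_not_dvd T n))
  have h1 := (S4160.result p 2 hp.out Nat.prime_two (fun e => h2 c hc (e ▸ hc)) ⟨c, hc⟩ ⟨t, ht⟩
    fun x e => h2 x ((Dvd.intro _ rfl).trans e) ((Dvd.intro_left _ rfl).trans e)).resolve_right n2
  refine hG (solv_of_nilp hc h2 fun r hr ⟨x, a, b⟩ => ?_)
  refine (S4160.result r q hr hq.out (fun e => h.not a (e ▸ b)) ⟨x, b⟩ ⟨d, hd⟩ fun y e => ?_).resolve_right
    fun e => h.false_of_nilp h1 e ne hc hd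
  exact hr.ne_one (Nat.eq_one_of_dvd_coprimes (h x y a ((Dvd.intro_left _ rfl).trans e)) b
    ((Dvd.intro _ rfl).trans e))

theorem Far.solv [hp : Fact p.Prime] [hq : Fact q.Prime] (h : Far p q G) (ne : p ≠ q) {c d : G}
    (hc : p ∣ cidx c) (hd : q ∣ cidx d) : Group.IsSolvable G := by
  by_cases h2 : ∀ x : G, p ∣ cidx x → ¬ 2 ∣ cidx x
  · exact h.solv' ne hc hd h2
  push Not at h2
  obtain ⟨x, a, b⟩ := h2
  exact h.symm.solv' ne.symm hd hc fun y e f => absurd
    (Nat.eq_one_of_dvd_coprimes (h x y a e) b f) (by decide)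

end Cfsg.Agent.CsG
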